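import Mathlib

/-!
Normal forms of Artin–Schreier classes after a totally ramified base change.
-/

set_option linter.all false

universe u

open IsLocalRing

namespace EtRamAS

/-- `x` and `y` differ by an element `c ^ p - c` with `c` in `F` up to an element of `R`. -/
def Eqv {N : Type u} [Field N] (p : ℕ) (R : Subring N) (F : Subfield N) (x y : N) : Prop :=
  ∃ c ∈ F, x - y - (c ^ p - c) ∈ R

section Eqv

variable {N : Type u} [Field N] {p : ℕ} [hp : Fact p.Prime] [CharP N p] {R : Subring N} {F : Subfield N} {x y z x' y' : N}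

lemma Eqv.of_sub_mem (h : x - y ∈ R) : Eqv p R F x y :=
  ⟨0, F.zero_mem, by rwa [zero_pow hp.out.ne_zero, sub_zero, sub_zero]⟩

lemma Eqv.refl (x : N) : Eqv p R F x x := Eqv.of_sub_mem (by rw [sub_self]; exact R.zero_mem)

lemma Eqv.trans (h : Eqv p R F x y) (h' : Eqv p R F y z) : Eqv p R F x z := by
  obtain ⟨c, hc, h⟩ := h
  obtain ⟨c', hc', h'⟩ := h'
  refine ⟨c + c', F.add_mem hc hc', ?_⟩
  rw [add_pow_char, show x - z - (c ^ p + c' ^ p - (c + c')) = (x - y - (c ^ p - c)) + (y - z - (c' ^ p - c')) by ring]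
  exact R.add_mem h h'

lemma Eqv.add (h : Eqv p R F x y) (h' : Eqv p R F x' y') : Eqv p R F (x + x') (y + y') := by
  obtain ⟨c, hc, h⟩ := h
  obtain ⟨c', hc', h'⟩ := h'
  refine ⟨c + c', F.add_mem hc hc', ?_⟩
  rw [add_pow_char, show x + x' - (y + y') - (c ^ p + c' ^ p - (c + c')) = (x - y - (c ^ p - c)) + (x' - y' - (c' ^ p - c')) by ring]
  exact R.add_mem h h'

lemma Eqv.neg (h : Eqv p R F x y) : Eqv p R F (-x) (-y) := by
  obtain ⟨c, hc, h⟩ := h
  refine ⟨-c, F.neg_mem hc, ?_⟩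
  have hneg : (-c) ^ p = -(c ^ p) := by
    have := sub_pow_char (p := p) (0 : N) c
    rwa [zero_sub, zero_pow hp.out.ne_zero, zero_sub] at this
  rw [hneg, show -x - -y - (-(c ^ p) - -c) = -(x - y - (c ^ p - c)) by ring]
  exact R.neg_mem h

lemma Eqv.symm (h : Eqv p R F x y) : Eqv p R F y x := by
  have h1 := (h.neg).add (Eqv.refl (p := p) (R := R) (F := F) (x + y))
  rwa [neg_add_cancel_left, add_comm x y, neg_add_cancel_left] at h1

lemma Eqv.sum {ι : Type*} (s : Finset ι) {f g : ι → N} (h : ∀ i ∈ s, Eqv p R F (f i) (g i)) :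
    Eqv p R F (∑ i ∈ s, f i) (∑ i ∈ s, g i) := by
  classical
  induction s using Finset.induction_on with
  | empty => simp only [Finset.sum_empty]; exact Eqv.refl _
  | insert i s hi ih =>
    rw [Finset.sum_insert hi, Finset.sum_insert hi]
    exact (h i (Finset.mem_insert_self _ _)).add (ih fun j hj => h j (Finset.mem_insert_of_mem hj))

lemma Eqv.pow_self (hx : x ∈ F) : ∀ t : ℕ, Eqv p R F (x ^ p ^ t) x
  | 0 => by rw [pow_zero, pow_one]; exact Eqv.refl _
  | t + 1 => by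
    refine Eqv.trans ⟨x ^ p ^ t, F.pow_mem hx _, ?_⟩ (Eqv.pow_self hx t)
    rw [pow_succ, pow_mul, sub_self]
    exact R.zero_mem

end Eqv

variable (p : ℕ) [hp : Fact p.Prime] {B : Type u} [CommRing B] [IsDomain B] [IsDiscreteValuationRing B] (π : B) (n : ℕ)

/-- A field with an element `w` with `w ^ Q` very close to `π`. -/
structure Setting (Q : ℕ) where
  N : Type u
  [field : Field N]
  [char : CharP N p]
  ι : B →+* N
  w : N
  R : Subring N
  F : Subfield N
  hRF : ∀ x ∈ R, x ∈ F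
  hι : ∀ b, ι b ∈ R
  hw : w ∈ R
  hw0 : w ≠ 0
  hπ : ∃ r ∈ R, ι π = w ^ Q + w ^ (n * Q) * r

attribute [instance] Setting.field Setting.char

variable {p π n} {Q : ℕ} (S : Setting.{u} p π n Q)

lemma Setting.inv_mem : S.w⁻¹ ∈ S.F := S.F.inv_mem (S.hRF _ S.hw)

lemma Setting.pow_mul_inv {a b : ℕ} (h : a ≤ b) : S.w ^ b * S.w⁻¹ ^ a = S.w ^ (b - a) := by
  rw [inv_pow, ← pow_sub₀ S.w S.hw0 h]

lemma Setting.inv_mul_pow {a b : ℕ} (h : b ≤ a) : S.w⁻¹ ^ a * S.w ^ b = S.w⁻¹ ^ (a - b) := by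
  rw [inv_pow, inv_pow, pow_sub₀ S.w S.hw0 h, mul_inv, inv_inv]

lemma Setting.small (hn : 1 ≤ n) (s : B) {e : ℕ} (he : e ≤ Q) : S.ι (π * s) * S.w⁻¹ ^ e ∈ S.R := by
  obtain ⟨r, hr, hπ⟩ := S.hπ
  have hle : e ≤ n * Q := he.trans (Nat.le_mul_of_pos_left Q hn)
  rw [map_mul, hπ, show (S.w ^ Q + S.w ^ (n * Q) * r) * S.ι s * S.w⁻¹ ^ e =
    S.ι s * (S.w ^ Q * S.w⁻¹ ^ e + r * (S.w ^ (n * Q) * S.w⁻¹ ^ e)) by ring, S.pow_mul_inv he, S.pow_mul_inv hle]
  exact S.R.mul_mem (S.hι _) (S.R.add_mem (S.R.pow_mem S.hw _) (S.R.mul_mem hr (S.R.pow_mem S.hw _)))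

/-- The element attached to a formal expansion. -/
noncomputable def Setting.val (k : ℕ) (f : ℕ →₀ B) : S.N := f.sum fun e b => S.ι b * S.w⁻¹ ^ (e * k)

lemma Setting.val_add (k : ℕ) (f g : ℕ →₀ B) : S.val k (f + g) = S.val k f + S.val k g :=
  Finsupp.sum_add_index' (fun e => by simp) (fun e b c => by simp [add_mul])

lemma Setting.val_single (k e : ℕ) (b : B) : S.val k (Finsupp.single e b) = S.ι b * S.w⁻¹ ^ (e * k) :=
  Finsupp.sum_single_index (by simp)

section

variable [CharP B p]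

/-- The exponents occurring in the reduction process. -/
def Good (p n e : ℕ) : Prop := ∃ d ≤ n, p ^ (n - d) ∣ e ∧ e * p ^ d ≤ n * p ^ n

lemma Good.le {e : ℕ} (h : Good p n e) : e ≤ n * p ^ n := by
  obtain ⟨d, -, -, h⟩ := h
  exact (Nat.le_mul_of_pos_right e (pow_pos hp.out.pos d)).trans h

lemma Good.step {e : ℕ} (h : Good p n e) (he : p ^ n < e) :
    p ∣ e ∧ Good p n (e / p) ∧ Good p n (e - p ^ n) := by
  obtain ⟨d, hdn, hdvd, hle⟩ := h
  have hlt : d < n := by
    by_contra hc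
    have hd : d = n := le_antisymm hdn (not_lt.mp hc)
    rw [hd] at hle
    have h1 : e ≤ n := Nat.le_of_mul_le_mul_right hle (pow_pos hp.out.pos n)
    have h2 : n < p ^ n := Nat.lt_pow_self hp.out.one_lt
    omega
  have hpe : p ∣ e := (dvd_pow_self p (by omega)).trans hdvd
  obtain ⟨e', rfl⟩ := hpe
  refine ⟨dvd_mul_right _ _, ⟨d + 1, hlt, ?_, ?_⟩, ⟨d, hdn, ?_, ?_⟩⟩
  · rw [Nat.mul_div_cancel_left _ hp.out.pos]
    rw [show n - d = (n - (d + 1)) + 1 by omega, pow_succ'] at hdvd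
    exact Nat.dvd_of_mul_dvd_mul_left hp.out.pos hdvd
  · rw [Nat.mul_div_cancel_left _ hp.out.pos]
    calc e' * p ^ (d + 1) = p * e' * p ^ d := by rw [pow_succ]; ring
      _ ≤ _ := hle
  · exact Nat.dvd_sub hdvd (pow_dvd_pow p (Nat.sub_le n d))
  · exact (Nat.mul_le_mul_right _ (Nat.sub_le _ _)).trans hle

/-- Reduction of the exponents above `p ^ n`. -/
lemma reduce (hπ : Irreducible π) (hn : 1 ≤ n) : ∀ (E : ℕ) (f : ℕ →₀ B), (∀ e ∈ f.support, Good p n e ∧ e ≤ E) →
    ∃ g : ℕ →₀ B, (∀ e ∈ g.support, Good p n e) ∧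
      (∀ (k : ℕ) (S : Setting.{u} p π n (p ^ n * k)), Eqv p S.R S.F (S.val k f) (S.val k g)) ∧
      ((∀ e ∈ g.support, e ≤ p ^ n) ∨
        ∃ N ∈ g.support, p ^ n < N ∧ (∀ e ∈ g.support, e ≤ N) ∧ ∀ r : ResidueField B, residue B (g N) ≠ r ^ p) := by
  intro E
  induction E using Nat.strong_induction_on with
  | _ E ih =>
    intro f hf
    by_cases hsmall : ∀ e ∈ f.support, e ≤ p ^ n
    · exact ⟨f, fun e he => (hf e he).1, fun k S => Eqv.refl _, Or.inl hsmall⟩
    push Not at hsmall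
    obtain ⟨e₀, he₀, he₀'⟩ := hsmall
    obtain ⟨M, hM, hmax⟩ := f.support.exists_max_image id ⟨e₀, he₀⟩
    have hMq : p ^ n < M := lt_of_lt_of_le he₀' (hmax e₀ he₀)
    by_cases hr : ∀ r : ResidueField B, residue B (f M) ≠ r ^ p
    · exact ⟨f, fun e he => (hf e he).1, fun k S => Eqv.refl _, Or.inr ⟨M, hM, hMq, fun e he => hmax e he, hr⟩⟩
    push Not at hr
    obtain ⟨r, hr⟩ := hr
    obtain ⟨b, rfl⟩ := residue_surjective r
    obtain ⟨s, hs⟩ : π ∣ f M - b ^ p := by
      rw [← Ideal.mem_span_singleton, ← (IsDiscreteValuationRing.irreducible_iff_uniformizer π).mp hπ, ← residue_eq_zero_iff,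
        map_sub, map_pow, hr, sub_self]
    obtain ⟨hdvd, hg1, hg2⟩ := (hf M hM).1.step hMq
    have hpn : 0 < p ^ n := pow_pos hp.out.pos n
    have hlt1 : M / p < M := Nat.div_lt_self (by omega) hp.out.one_lt
    set f' := f.erase M + Finsupp.single (M / p) b + Finsupp.single (M - p ^ n) s with hf'
    have hsupp : ∀ e ∈ f'.support, Good p n e ∧ e ≤ M - 1 := by
      intro e he
      rw [hf'] at he
      rcases Finset.mem_union.mp (Finsupp.support_add he) with he | he
      · rcases Finset.mem_union.mp (Finsupp.support_add he) with he | he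
        · rw [Finsupp.support_erase, Finset.mem_erase] at he
          refine ⟨(hf e he.2).1, ?_⟩
          have := hmax e he.2
          simp only [id_eq] at this
          omega
        · obtain rfl := Finset.mem_singleton.mp (Finsupp.support_single_subset he)
          exact ⟨hg1, by omega⟩
      · obtain rfl := Finset.mem_singleton.mp (Finsupp.support_single_subset he)
        exact ⟨hg2, by omega⟩
    have hME : M ≤ E := (hf M hM).2
    obtain ⟨g, hg, hgS, hgc⟩ := ih (M - 1) (by omega) f' hsupp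
    refine ⟨g, hg, fun k S => Eqv.trans ?_ (hgS k S), hgc⟩
    conv_lhs => rw [← Finsupp.erase_add_single M f]
    rw [hf', S.val_add, S.val_add, S.val_add, S.val_single, S.val_single, S.val_single, add_assoc]
    refine (Eqv.refl _).add ?_
    refine Eqv.trans (y := (S.ι b * S.w⁻¹ ^ (M / p * k)) ^ p + S.ι s * S.w⁻¹ ^ ((M - p ^ n) * k)) ?_
      ((by simpa using Eqv.pow_self (p := p) (R := S.R) (S.F.mul_mem (S.hRF _ (S.hι b)) (S.F.pow_mem S.inv_mem _)) 1 :
        Eqv p S.R S.F ((S.ι b * S.w⁻¹ ^ (M / p * k)) ^ p) _).add (Eqv.refl _))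
    refine Eqv.of_sub_mem ?_
    obtain ⟨r, hr', hπ'⟩ := S.hπ
    have hexp : M / p * k * p = M * k := by rw [mul_right_comm, Nat.div_mul_cancel hdvd]
    have hle : p ^ n * k ≤ M * k := Nat.mul_le_mul_right k hMq.le
    have hle2 : M * k ≤ n * (p ^ n * k) := by rw [← mul_assoc]; exact Nat.mul_le_mul_right k (hf M hM).1.le
    rw [mul_pow, ← map_pow, ← pow_mul, hexp, show f M = b ^ p + π * s by linear_combination hs, map_add, map_mul, hπ',
      tsub_mul, ← S.inv_mul_pow hle,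
      show (S.ι (b ^ p) + (S.w ^ (p ^ n * k) + S.w ^ (n * (p ^ n * k)) * r) * S.ι s) * S.w⁻¹ ^ (M * k) -
        (S.ι (b ^ p) * S.w⁻¹ ^ (M * k) + S.ι s * (S.w⁻¹ ^ (M * k) * S.w ^ (p ^ n * k))) =
          (S.w ^ (n * (p ^ n * k)) * S.w⁻¹ ^ (M * k)) * (r * S.ι s) by ring, S.pow_mul_inv hle2]
    exact S.R.mul_mem (S.R.pow_mem S.hw _) (S.R.mul_mem hr' (S.hι _))

/-- Exponent at which the terms of prime-to-`p` part `i` are collected. -/
def topExp (p n i : ℕ) : ℕ := i * p ^ Nat.log p (p ^ n / i)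

lemma collect (hn : 1 ≤ n) : ∀ (f : ℕ →₀ B), (∀ e ∈ f.support, e ≤ p ^ n) →
    ∃ h : ℕ →₀ B, (∀ i ∈ h.support, ¬ p ∣ i ∧ i ≤ p ^ n) ∧
      ∀ (k : ℕ) (S : Setting.{u} p π n (p ^ n * k)), Eqv p S.R S.F (S.val k f)
        (h.sum fun i b => S.ι b * S.w⁻¹ ^ (topExp p n i * k)) := by
  intro f
  induction f using Finsupp.induction with
  | zero =>
    intro _
    exact ⟨0, by simp, fun k S => by rw [Setting.val, Finsupp.sum_zero_index, Finsupp.sum_zero_index]; exact Eqv.refl _⟩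
  | single_add e b f he hb ih =>
    intro hle
    have hsupp : (Finsupp.single e b + f).support = insert e f.support := by
      rw [Finsupp.support_single_add he hb, Finset.cons_eq_insert]
    obtain ⟨h, hh, hhS⟩ := ih (fun e' he' => hle e' (by rw [hsupp]; exact Finset.mem_insert_of_mem he'))
    have hen : e ≤ p ^ n := hle e (by rw [hsupp]; exact Finset.mem_insert_self _ _)
    rcases Nat.eq_zero_or_pos e with rfl | he0
    · refine ⟨h, hh, fun k S => ?_⟩
      rw [S.val_add, S.val_single]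
      refine Eqv.trans ((Eqv.of_sub_mem (y := 0) ?_).add (hhS k S)) (by rw [zero_add]; exact Eqv.refl _)
      rw [zero_mul, pow_zero, mul_one, sub_zero]; exact S.hι b
    obtain ⟨s, i, hi, rfl⟩ := Nat.exists_eq_pow_mul_and_not_dvd he0.ne' p hp.out.ne_one
    have hi0 : 0 < i := Nat.pos_of_mul_pos_left he0
    have hs : s ≤ Nat.log p (p ^ n / i) :=
      Nat.le_log_of_pow_le hp.out.one_lt ((Nat.le_div_iff_mul_le hi0).mpr hen)
    have hile : i ≤ p ^ n := (Nat.le_mul_of_pos_left i (pow_pos hp.out.pos s)).trans hen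
    set T := Nat.log p (p ^ n / i) with hT
    refine ⟨Finsupp.single i (b ^ p ^ (T - s)) + h, fun i' hi' => ?_, fun k S => ?_⟩
    · rcases Finset.mem_union.mp (Finsupp.support_add hi') with h' | h'
      · obtain rfl := Finset.mem_singleton.mp (Finsupp.support_single_subset h')
        exact ⟨hi, hile⟩
      · exact hh i' h'
    rw [S.val_add, S.val_single, Finsupp.sum_add_index' (fun e => by simp) (fun e b c => by simp [add_mul]),
      Finsupp.sum_single_index (by simp)]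
    refine Eqv.add ?_ (hhS k S)
    rw [map_pow, topExp, ← hT, show S.w⁻¹ ^ (i * p ^ T * k) = (S.w⁻¹ ^ (p ^ s * i * k)) ^ p ^ (T - s) by
      rw [← pow_mul]; congr 1
      rw [show p ^ T = p ^ s * p ^ (T - s) by rw [← pow_add, Nat.add_sub_cancel' hs]]
      ring, ← mul_pow]
    exact (Eqv.pow_self (S.F.mul_mem (S.hRF _ (S.hι b)) (S.F.pow_mem S.inv_mem _)) _).symm

variable {A : Type u} [CommRing A] [IsLocalRing A] [Algebra A B] [IsLocalHom (algebraMap A B)]

omit [IsDomain B] [IsDiscreteValuationRing B] [CharP B p] in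
lemma perfect_residue [IsLocalRing B] [CharP (ResidueField B) p]
    (hk : ∀ x : ResidueField B, (∀ n : ℕ, ∃ y : ResidueField B, y ^ (p ^ n) = x) ↔
      x ∈ Set.range (algebraMap (ResidueField A) (ResidueField B)))
    (x : ResidueField A) (t : ℕ) : ∃ y : ResidueField A, y ^ p ^ t = x := by
  haveI : ExpChar (ResidueField B) p := ExpChar.prime hp.out
  have hx := (hk _).mpr ⟨x, rfl⟩
  obtain ⟨y, hy⟩ := hx t
  have : y ∈ Set.range (algebraMap (ResidueField A) (ResidueField B)) := (hk y).mp fun m => by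
    obtain ⟨y', hy'⟩ := hx (m + t)
    refine ⟨y', iterateFrobenius_inj (ResidueField B) p t ?_⟩
    simp only [iterateFrobenius_def]
    rw [← pow_mul, ← pow_add, hy', hy]
  obtain ⟨y₀, rfl⟩ := this
  exact ⟨y₀, (algebraMap (ResidueField A) (ResidueField B)).injective (by rw [map_pow, hy])⟩

/-- The normal form. -/
theorem normal_form [CharP (ResidueField B) p] (hπ : Irreducible π) (hn : 1 ≤ n)
    (hk : ∀ x : ResidueField B, (∀ n : ℕ, ∃ y : ResidueField B, y ^ (p ^ n) = x) ↔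
      x ∈ Set.range (algebraMap (ResidueField A) (ResidueField B))) (a : B) :
    ∃ (J : ℕ) (η : ℕ →₀ A), (∀ i ∈ η.support, ¬ p ∣ i ∧ residue A (η i) ≠ 0) ∧
      ((∀ S : Setting.{u} p π n (p ^ n * p ^ J), Eqv p S.R S.F (S.ι a * S.w⁻¹ ^ (n * (p ^ n * p ^ J)))
          (η.sum fun i α => S.ι (algebraMap A B α) * S.w⁻¹ ^ i)) ∨
        ∃ (N : ℕ) (b : B), 0 < N ∧ p ∣ N ∧ (∀ r : ResidueField B, residue B b ≠ r ^ p) ∧
          ∀ S : Setting.{u} p π n (p ^ n * p ^ J), ∃ r ∈ S.R, Eqv p S.R S.F (S.ι a * S.w⁻¹ ^ (n * (p ^ n * p ^ J)))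
            ((η.sum fun i α => S.ι (algebraMap A B α) * S.w⁻¹ ^ i) + S.w⁻¹ ^ N * (S.ι b + S.w * r))) := by
  classical
  have hgood : Good p n (n * p ^ n) := ⟨0, Nat.zero_le _, by simp, by simp⟩
  obtain ⟨g, hg, hgS, hgc⟩ := reduce hπ hn (n * p ^ n) (Finsupp.single (n * p ^ n) a) (fun e he => by
    obtain rfl := Finset.mem_singleton.mp (Finsupp.support_single_subset he)
    exact ⟨hgood, le_rfl⟩)
  have hstart : ∀ (k : ℕ) (S : Setting.{u} p π n (p ^ n * k)),
      Eqv p S.R S.F (S.ι a * S.w⁻¹ ^ (n * (p ^ n * k))) (S.val k g) := fun k S => by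
    have := hgS k S
    rwa [S.val_single, mul_assoc] at this
  rcases hgc with hsmall | ⟨N, hN, hNq, hmax, hres⟩
  swap
  · refine ⟨0, 0, by simp, Or.inr ⟨N, g N, lt_of_le_of_lt (Nat.zero_le _) hNq, ((hg N hN).step hNq).1, hres, fun S => ?_⟩⟩
    refine ⟨∑ e ∈ g.support.erase N, S.ι (g e) * S.w ^ (N - e - 1), S.R.sum_mem fun e he => S.R.mul_mem (S.hι _) (S.R.pow_mem S.hw _), ?_⟩
    refine Eqv.trans (hstart _ S) ?_
    rw [Finsupp.sum_zero_index, zero_add, Setting.val, Finsupp.sum, ← Finset.add_sum_erase _ _ hN]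
    simp only [pow_zero, mul_one]
    rw [mul_add, mul_comm (S.w⁻¹ ^ N) (S.ι (g N)), Finset.mul_sum, Finset.mul_sum]
    refine (Eqv.refl _).add (Eqv.sum _ fun e he => Eqv.of_sub_mem ?_)
    obtain ⟨hne, he⟩ := Finset.mem_erase.mp he
    have hlt : e < N := lt_of_le_of_ne (hmax e he) hne
    have h1 : S.w⁻¹ ^ N * (S.w * (S.ι (g e) * S.w ^ (N - e - 1))) = S.ι (g e) * S.w⁻¹ ^ e := by
      rw [show S.w⁻¹ ^ N * (S.w * (S.ι (g e) * S.w ^ (N - e - 1))) = S.ι (g e) * (S.w⁻¹ ^ N * S.w ^ (N - e - 1 + 1)) by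
        rw [pow_succ]; ring, S.inv_mul_pow (by omega)]
      congr 2; omega
    rw [h1, sub_self]; exact S.R.zero_mem
  obtain ⟨h, hh, hhS⟩ := collect (π := π) hn g hsmall
  let KA : Set (ResidueField B) := Set.range (algebraMap (ResidueField A) (ResidueField B))
  let T : ℕ → ℕ := fun i => Nat.log p (p ^ n / i)
  -- the depth of each residue
  have hdepth : ∀ i, residue B (h i) ∉ KA → ∃ j, (∃ b : B, residue B (h i) = residue B b ^ p ^ j ∧
      ∀ r : ResidueField B, residue B b ≠ r ^ p) := by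
    intro i hi
    have hex : ∃ m, ¬ ∃ y : ResidueField B, y ^ p ^ m = residue B (h i) := by
      by_contra hc
      push Not at hc
      exact hi ((hk _).mp hc)
    set m := Nat.find hex with hm
    have hm0 : m ≠ 0 := fun h0 => Nat.find_spec hex ⟨residue B (h i), by rw [← hm, h0, pow_zero, pow_one]⟩
    obtain ⟨y, hy⟩ := not_not.mp (Nat.find_min hex (show m - 1 < m by omega))
    obtain ⟨b, rfl⟩ := residue_surjective y
    refine ⟨m - 1, b, hy.symm, fun r hr => Nat.find_spec hex ⟨r, ?_⟩⟩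
    rw [← hm, ← hy, hr, ← pow_mul, ← pow_succ']
    congr 2; omega
  choose! j b hb hbp using hdepth
  set J := (h.support.sup j) + 1 with hJ
  have hjJ : ∀ i ∈ h.support, j i < J := fun i hi => Nat.lt_succ_of_le (Finset.le_sup hi)
  -- lifts in A of roots of residues
  have hβ : ∀ i, residue B (h i) ∈ KA → residue B (h i) ≠ 0 → ∃ β : A, residue A β ≠ 0 ∧
      residue B (h i) = residue B (algebraMap A B β ^ p ^ (T i + J)) := by
    rintro i ⟨x, hx⟩ h0
    obtain ⟨y, hy⟩ := perfect_residue hk x (T i + J)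
    obtain ⟨β, rfl⟩ := residue_surjective y
    refine ⟨β, fun hβ => h0 ?_, ?_⟩
    · rw [← hx, ← hy, hβ, zero_pow (pow_ne_zero _ hp.out.ne_zero), map_zero]
    · rw [← hx, ← hy, map_pow, map_pow]; rfl
  choose! β hβ0 hβ' using hβ
  let Iη := h.support.filter fun i => residue B (h i) ∈ KA ∧ residue B (h i) ≠ 0
  let It := h.support.filter fun i => residue B (h i) ∉ KA
  let η : ℕ →₀ A := ∑ i ∈ Iη, Finsupp.single i (β i)
  have hηap : ∀ i, η i = if i ∈ Iη then β i else 0 := fun i => by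
    simp only [η, Finsupp.finsetSum_apply, Finsupp.single_apply, Finset.sum_ite_eq']
  have hηsupp : η.support = Iη := by
    ext i
    rw [Finsupp.mem_support_iff, hηap]
    by_cases hi : i ∈ Iη
    · simp only [if_pos hi, hi, iff_true]
      intro h0
      have := hβ0 i (Finset.mem_filter.mp hi).2.1 (Finset.mem_filter.mp hi).2.2
      first
        | (rw [h0, map_zero] at this; exact this rfl)
        | exact this (by rw [show β i = 0 from h0, map_zero])
    · simp [hi]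
  have htop : ∀ i ∈ h.support, topExp p n i ≤ p ^ n := fun i hi => by
    obtain ⟨hdvd, hle⟩ := hh i hi
    have hi0 : 0 < i := Nat.pos_of_ne_zero fun h0 => hdvd (h0 ▸ dvd_zero p)
    rw [topExp, mul_comm]
    exact (Nat.le_div_iff_mul_le hi0).mp (Nat.pow_log_le_self p (Nat.div_pos hle hi0).ne')
  let E : ℕ → ℕ := fun i => i * p ^ (T i + J - j i)
  have key : ∀ S : Setting.{u} p π n (p ^ n * p ^ J), Eqv p S.R S.F (S.ι a * S.w⁻¹ ^ (n * (p ^ n * p ^ J)))
      ((η.sum fun i α => S.ι (algebraMap A B α) * S.w⁻¹ ^ i) + ∑ i ∈ It, S.ι (b i) * S.w⁻¹ ^ E i) := by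
    intro S
    refine ((hstart _ S).trans (hhS _ S)).trans ?_
    have hred : ∀ i ∈ h.support, ∀ c : B, residue B (h i) = residue B c →
        Eqv p S.R S.F (S.ι (h i) * S.w⁻¹ ^ (topExp p n i * p ^ J)) (S.ι c * S.w⁻¹ ^ (topExp p n i * p ^ J)) := by
      intro i hi c hc
      refine Eqv.of_sub_mem ?_
      obtain ⟨s, hs⟩ : π ∣ h i - c := by
        rw [← Ideal.mem_span_singleton, ← (IsDiscreteValuationRing.irreducible_iff_uniformizer π).mp hπ, ← residue_eq_zero_iff,
          map_sub, hc, sub_self]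
      rw [← sub_mul, ← map_sub, hs]
      exact S.small hn s (Nat.mul_le_mul_right _ (htop i hi))
    have hsplit : ∑ i ∈ h.support, S.ι (h i) * S.w⁻¹ ^ (topExp p n i * p ^ J) =
        ∑ i ∈ Iη, S.ι (h i) * S.w⁻¹ ^ (topExp p n i * p ^ J) + ∑ i ∈ It, S.ι (h i) * S.w⁻¹ ^ (topExp p n i * p ^ J) +
          ∑ i ∈ h.support.filter (fun i => residue B (h i) = 0), S.ι (h i) * S.w⁻¹ ^ (topExp p n i * p ^ J) := by
      rw [← Finset.sum_filter_add_sum_filter_not h.support (fun i => residue B (h i) = 0), add_comm,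
        ← Finset.sum_filter_add_sum_filter_not (h.support.filter fun i => ¬ residue B (h i) = 0) (fun i => residue B (h i) ∈ KA),
        Finset.filter_filter, Finset.filter_filter]
      congr 2
      · exact Finset.sum_congr (Finset.filter_congr fun i _ => by tauto) fun _ _ => rfl
      · refine Finset.sum_congr (Finset.filter_congr fun i _ => ?_) fun _ _ => rfl
        refine ⟨fun h' => h'.2, fun h' => ⟨fun h0 => h' ⟨0, by rw [map_zero, h0]⟩, h'⟩⟩
    have hzero : Eqv p S.R S.F (∑ i ∈ h.support.filter (fun i => residue B (h i) = 0),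
        S.ι (h i) * S.w⁻¹ ^ (topExp p n i * p ^ J)) 0 := by
      have := Eqv.sum (p := p) (R := S.R) (F := S.F) (h.support.filter fun i => residue B (h i) = 0)
        (f := fun i => S.ι (h i) * S.w⁻¹ ^ (topExp p n i * p ^ J)) (g := fun _ => 0) fun i hi => by
          have := hred i (Finset.mem_filter.mp hi).1 0 (by rw [map_zero]; exact (Finset.mem_filter.mp hi).2)
          rwa [map_zero, zero_mul] at this
      rwa [Finset.sum_const_zero] at this
    rw [Finsupp.sum, hsplit, ← add_zero (_ + ∑ i ∈ It, S.ι (b i) * S.w⁻¹ ^ E i)]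
    refine ((?_ : Eqv p S.R S.F _ _).add (Eqv.sum It fun i hi => ?_)).add hzero
    · rw [Finsupp.sum, hηsupp]
      refine Eqv.sum Iη fun i hi => ?_
      obtain ⟨hi', hK, h0⟩ := Finset.mem_filter.mp hi
      refine (hred i hi' _ (hβ' i hK h0)).trans ?_
      rw [hηap, if_pos hi, map_pow, show topExp p n i * p ^ J = i * p ^ (T i + J) by simp only [T, topExp]; rw [mul_assoc, ← pow_add],
        pow_mul, ← mul_pow]
      exact Eqv.pow_self (S.F.mul_mem (S.hRF _ (S.hι _)) (S.F.pow_mem S.inv_mem _)) _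
    · obtain ⟨hi', hK⟩ := Finset.mem_filter.mp hi
      refine (hred i hi' (b i ^ p ^ j i) (by rw [map_pow]; exact hb i hK)).trans ?_
      have hexp : topExp p n i * p ^ J = E i * p ^ j i := by
        simp only [E, topExp]
        rw [mul_assoc i, mul_assoc i, ← pow_add, ← pow_add, Nat.sub_add_cancel ((hjJ i hi').le.trans (Nat.le_add_left _ _))]
      rw [map_pow, hexp, pow_mul, ← mul_pow]
      exact Eqv.pow_self (S.F.mul_mem (S.hRF _ (S.hι _)) (S.F.pow_mem S.inv_mem _)) _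
  refine ⟨J, η, fun i hi => ?_, ?_⟩
  · rw [hηsupp] at hi
    obtain ⟨hi', hK, h0⟩ := Finset.mem_filter.mp hi
    rw [hηap, if_pos (Finset.mem_filter.mpr ⟨hi', hK, h0⟩)]
    exact ⟨(hh i hi').1, hβ0 i hK h0⟩
  rcases It.eq_empty_or_nonempty with hIt | hIt
  · left
    intro S
    have := key S
    rwa [hIt, Finset.sum_empty, add_zero] at this
  right
  obtain ⟨i₁, hi₁, hmax⟩ := It.exists_max_image E hIt
  obtain ⟨hi₁', hK₁⟩ := Finset.mem_filter.mp hi₁
  have hi₁0 : 0 < i₁ := Nat.pos_of_ne_zero fun h0 => (hh i₁ hi₁').1 (h0 ▸ dvd_zero p)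
  refine ⟨E i₁, b i₁, Nat.mul_pos hi₁0 (pow_pos hp.out.pos _), (dvd_pow_self p (by have := hjJ i₁ hi₁'; omega)).mul_left _,
    hbp i₁ hK₁, fun S => ?_⟩
  have hdist : ∀ i ∈ It, i ≠ i₁ → E i < E i₁ := by
    intro i hi hne
    refine lt_of_le_of_ne (hmax i hi) fun heq => hne ?_
    have hi' := (Finset.mem_filter.mp hi).1
    have key : ∀ (x y s t : ℕ), ¬ p ∣ x → s ≤ t → x * p ^ s = y * p ^ t → x = y := by
      intro x y s t hx hst hxy
      rcases hst.eq_or_lt with rfl | hlt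
      · exact Nat.eq_of_mul_eq_mul_right (pow_pos hp.out.pos s) hxy
      · exfalso
        obtain ⟨d, hd, rfl⟩ : ∃ d, 0 < d ∧ t = d + s := ⟨t - s, by omega, by omega⟩
        rw [pow_add, ← mul_assoc] at hxy
        exact hx (Nat.eq_of_mul_eq_mul_right (pow_pos hp.out.pos s) hxy ▸ (dvd_pow_self p hd.ne').mul_left y)
    rcases le_total (T i + J - j i) (T i₁ + J - j i₁) with hst | hst
    · exact key _ _ _ _ (hh i hi').1 hst heq
    · exact (key _ _ _ _ (hh i₁ hi₁').1 hst heq.symm).symm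
  refine ⟨∑ i ∈ It.erase i₁, S.ι (b i) * S.w ^ (E i₁ - E i - 1),
    S.R.sum_mem fun e he => S.R.mul_mem (S.hι _) (S.R.pow_mem S.hw _), ?_⟩
  refine (key S).trans ((Eqv.refl _).add ?_)
  rw [← Finset.add_sum_erase _ _ hi₁, mul_add, mul_comm (S.w⁻¹ ^ E i₁) (S.ι (b i₁)), Finset.mul_sum, Finset.mul_sum]
  refine (Eqv.refl _).add (Eqv.sum _ fun i hi => Eqv.of_sub_mem ?_)
  obtain ⟨hne, hi⟩ := Finset.mem_erase.mp hi
  have hlt := hdist i hi hne
  have h1 : S.w⁻¹ ^ E i₁ * (S.w * (S.ι (b i) * S.w ^ (E i₁ - E i - 1))) = S.ι (b i) * S.w⁻¹ ^ E i := by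
    rw [show S.w⁻¹ ^ E i₁ * (S.w * (S.ι (b i) * S.w ^ (E i₁ - E i - 1))) = S.ι (b i) * (S.w⁻¹ ^ E i₁ * S.w ^ (E i₁ - E i - 1 + 1)) by
      ring, S.inv_mul_pow (by omega)]
    congr 2; omega
  rw [h1, sub_self]; exact S.R.zero_mem

end

end EtRamAS
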