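import Groth.Agent.EtRamBC.Basic
import Groth.Agent.EtRamBC.Gen
import Groth.Agent.EtRamBC.ResField

/-!
Valuation rings in composita: a totally ramified factor, then a monogenic extension with reduced reduction.
-/

set_option linter.all false

universe u

open Polynomial IsLocalRing TensorProduct

namespace EtRamAS

/-- A valuation ring `W` of a field generated by `B` and a ring `U` with trivial residue extension over `A`. -/
theorem composite {A B U : Type u} [CommRing A] [IsLocalRing A] [CommRing B] [IsDomain B] [IsDiscreteValuationRing B]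
    [CommRing U] [IsLocalRing U] [Algebra A B] [Algebra A U] [IsLocalHom (algebraMap A B)] [IsLocalHom (algebraMap A U)]
    {W : Type u} [CommRing W] [IsDomain W] [ValuationRing W] [Algebra A W] [Algebra U W] [Algebra B W]
    [IsScalarTower A U W] [IsScalarTower A B W] [IsLocalHom (algebraMap A W)] [IsLocalHom (algebraMap U W)] [IsLocalHom (algebraMap B W)]
    (hres : Function.Surjective fun a : A => residue U (algebraMap A U a))
    (π : A) (hmB : maximalIdeal B = Ideal.span {algebraMap A B π}) (hπ : Irreducible (algebraMap A B π))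
    (y : U) (hy : maximalIdeal U = Ideal.span {y}) (e : ℕ) (he : algebraMap A U π ∣ y ^ e) (hπU : ¬ IsUnit (algebraMap A U π))
    (hy0 : algebraMap U W y ≠ 0) (hBW : Function.Injective (algebraMap B W))
    (halg : ∀ w : W, IsAlgebraic B w)
    (hgen : ∀ w : W, ∃ s t, EtRamBC.genHom A B U W t ≠ 0 ∧ w * EtRamBC.genHom A B U W t = EtRamBC.genHom A B U W s) :
    maximalIdeal W = Ideal.span {algebraMap U W y} ∧ Function.Surjective fun b : B => residue W (algebraMap B W b) := by
  have hk : Function.Surjective (algebraMap (ResidueField A) (ResidueField U)) := fun x => by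
    obtain ⟨a, ha⟩ := hres x
    exact ⟨residue A a, ha⟩
  haveI : Algebra.IsAlgebraic (ResidueField A) (ResidueField U) := ⟨fun x => by
    obtain ⟨a, rfl⟩ := hk x
    exact isAlgebraic_algebraMap a⟩
  let inc : ResidueField B →ₐ[ResidueField A] ResidueField U ⊗[ResidueField A] ResidueField B := Algebra.TensorProduct.includeRight
  have hinc : Function.Surjective inc := by
    intro t
    induction t using TensorProduct.induction_on with
    | zero => exact ⟨0, map_zero _⟩
    | tmul x z =>
      obtain ⟨a, rfl⟩ := hk x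
      exact ⟨a • z, by
        show (1 : ResidueField U) ⊗ₜ[ResidueField A] (a • z) = _
        rw [← TensorProduct.smul_tmul, Algebra.smul_def, mul_one]⟩
    | add s t hs ht => obtain ⟨x, rfl⟩ := hs; obtain ⟨z, rfl⟩ := ht; exact ⟨x + z, map_add _ _ _⟩
  haveI : Nontrivial (ResidueField U ⊗[ResidueField A] ResidueField B) :=
    RingHom.domain_nontrivial (EtRamBC.resHom A B U W).toRingHom
  have hincinj : Function.Injective inc := RingHom.injective inc.toRingHom
  haveI : IsReduced (ResidueField U ⊗[ResidueField A] ResidueField B) :=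
    isReduced_of_injective (RingEquiv.ofBijective inc.toRingHom ⟨hincinj, hinc⟩).symm.toRingHom
      (RingEquiv.ofBijective inc.toRingHom ⟨hincinj, hinc⟩).symm.injective
  have hθy : EtRamBC.genHom A B U W (y ⊗ₜ[A] (1 : B)) = algebraMap U W y := by
    refine (Algebra.TensorProduct.productMap_apply_tmul _ _ y 1).trans ?_
    simp
  obtain ⟨hmax, hsurj⟩ := EtRamBC.main A B U W (y ⊗ₜ[A] (1 : B))
    (fun u hu => by
      obtain ⟨c, rfl⟩ := Ideal.mem_span_singleton.mp (hy ▸ hu)
      exact ⟨c ⊗ₜ[A] (1 : B), by rw [Algebra.TensorProduct.tmul_mul_tmul, mul_one]⟩)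
    (fun b hb => by
      obtain ⟨c, rfl⟩ := Ideal.mem_span_singleton.mp (hmB ▸ hb)
      obtain ⟨d, hd⟩ : y ∣ algebraMap A U π := Ideal.mem_span_singleton.mp (hy ▸ hπU)
      refine ⟨d ⊗ₜ[A] c, ?_⟩
      rw [Algebra.TensorProduct.tmul_mul_tmul, one_mul, ← hd, ← Algebra.smul_def π c, Algebra.algebraMap_eq_smul_one,
        ← TensorProduct.smul_tmul])
    (by rw [hθy, isUnit_map_iff]; exact (IsLocalRing.mem_maximalIdeal y).mp (hy ▸ Ideal.mem_span_singleton_self y))
    hBW (fun t => halg _) hgen (by rwa [hθy]) e (algebraMap A B π) hπ (by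
      rw [hθy, ← map_pow, ← IsScalarTower.algebraMap_apply, IsScalarTower.algebraMap_apply A U W]
      exact map_dvd _ he)
  refine ⟨by rw [hmax, hθy], fun x => ?_⟩
  obtain ⟨t, rfl⟩ := hsurj x
  obtain ⟨z, rfl⟩ := hinc t
  obtain ⟨b, rfl⟩ := residue_surjective z
  refine ⟨b, ?_⟩
  show residue W (algebraMap B W b) = EtRamBC.resHom A B U W ((1 : ResidueField U) ⊗ₜ[ResidueField A] residue B b)
  simp [EtRamBC.resHom]

/-- A monogenic step with reduced reduction keeps the uniformizer. -/
theorem monogenic {B : Type u} [CommRing B] [IsDomain B] [IsDiscreteValuationRing B]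
    {F N : Type u} [Field F] [Field N] [Algebra F N] (W : ValuationSubring N)
    [Algebra B W] [IsLocalHom (algebraMap B W)] (hBW : Function.Injective (algebraMap B W))
    (halg : ∀ w : W, IsAlgebraic B w)
    (y : W.comap (algebraMap F N)) (hy : maximalIdeal (W.comap (algebraMap F N)) = Ideal.span {y}) (hy0 : y ≠ 0)
    (e : ℕ) (ϖ : B) (hϖ : Irreducible ϖ) (he : algebraMap B W ϖ ∣ (EtRam.inclOfComap W (algebraMap F N) y) ^ e)
    (g : (W.comap (algebraMap F N))[X]) (hg : g.Monic) (hred : Squarefree (g.map (residue _)))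
    (ζ : N) (hζ : g.eval₂ ((algebraMap F N).comp (W.comap (algebraMap F N)).subtype) ζ = 0)
    (hgen : ∀ x : N, ∃ q : F[X], aeval ζ q = x) :
    maximalIdeal W = Ideal.span {EtRam.inclOfComap W (algebraMap F N) y} := by
  classical
  let inc := EtRam.inclOfComap W (algebraMap F N)
  letI : Algebra (W.comap (algebraMap F N)) W := inc.toAlgebra
  letI : Algebra (W.comap (algebraMap F N)) N := ((algebraMap F N).comp (W.comap (algebraMap F N)).subtype).toAlgebra
  haveI : IsScalarTower (W.comap (algebraMap F N)) W N := IsScalarTower.of_algebraMap_eq fun x => rfl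
  have hζW : ζ ∈ W := by
    have h1 : IsIntegral (W.comap (algebraMap F N)) ζ := ⟨g, hg, hζ⟩
    obtain ⟨z, rfl⟩ := (IsIntegrallyClosed.isIntegral_iff (R := W) (K := N)).mp h1.tower_top
    exact z.2
  let k := ResidueField (W.comap (algebraMap F N))
  let R := AdjoinRoot (g.map (residue (W.comap (algebraMap F N))))
  haveI : Module.Finite k R := (hg.map _).finite_adjoinRoot
  haveI : IsReduced R := (Ideal.isRadical_iff_quotient_reduced _).mp (isRadical_iff_span_singleton.mp hred.isRadical)
  haveI : IsArtinianRing R := IsArtinianRing.of_finite k R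
  let θ : (W.comap (algebraMap F N))[X] →+* W := eval₂RingHom inc ⟨ζ, hζW⟩
  let red : (W.comap (algebraMap F N))[X] →+* R := (AdjoinRoot.mk (g.map (residue (W.comap (algebraMap F N))))).comp (mapRingHom (residue (W.comap (algebraMap F N))))
  have hθg : θ g = 0 := by
    refine Subtype.ext ?_
    show algebraMap W N (g.eval₂ inc ⟨ζ, hζW⟩) = 0
    rw [hom_eval₂]
    exact hζ
  have hψ0 : (g.map (residue (W.comap (algebraMap F N)))).eval₂ (ResidueField.map inc) (residue W ⟨ζ, hζW⟩) = 0 := by
    have := congrArg (residue W) hθg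
    rw [map_zero] at this
    rw [← this, eval₂_map]
    show _ = residue W (g.eval₂ inc ⟨ζ, hζW⟩)
    rw [hom_eval₂]
    rfl
  let ψ : R →+* ResidueField W := AdjoinRoot.lift (ResidueField.map inc) (residue W ⟨ζ, hζW⟩) hψ0
  have hredsurj : Function.Surjective red := fun r => by
    obtain ⟨q, rfl⟩ := AdjoinRoot.mk_surjective r
    obtain ⟨q, rfl⟩ := Polynomial.map_surjective (residue (W.comap (algebraMap F N))) residue_surjective q
    exact ⟨q, rfl⟩
  have hψ : ∀ t, ψ (red t) = residue W (θ t) := fun t => by
    show AdjoinRoot.lift _ _ hψ0 (AdjoinRoot.mk _ (t.map (residue (W.comap (algebraMap F N))))) = residue W (t.eval₂ inc ⟨ζ, hζW⟩)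
    rw [AdjoinRoot.lift_mk, eval₂_map, hom_eval₂]
    rfl
  have hker : ∀ t, red t = 0 → ∃ t', θ t = inc y * θ t' := by
    intro t ht
    obtain ⟨s, hs⟩ := AdjoinRoot.mk_eq_zero.mp ht
    obtain ⟨s, rfl⟩ := Polynomial.map_surjective (residue (W.comap (algebraMap F N))) residue_surjective s
    have hdvd : C y ∣ t - g * s := by
      rw [C_dvd_iff_dvd_coeff]
      intro i
      rw [← Ideal.mem_span_singleton, ← hy, ← residue_eq_zero_iff, ← coeff_map, Polynomial.map_sub, Polynomial.map_mul]
      rw [show t.map (residue (W.comap (algebraMap F N))) = g.map (residue (W.comap (algebraMap F N))) * s.map (residue (W.comap (algebraMap F N))) from hs, sub_self, coeff_zero]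
    obtain ⟨r, hr⟩ := hdvd
    refine ⟨r, ?_⟩
    rw [show t = g * s + C y * r by linear_combination hr, map_add, map_mul, hθg, zero_mul, zero_add, map_mul]
    simp [θ]
  haveI : IsFractionRing (W.comap (algebraMap F N)) F := inferInstance
  refine (EtRamBC.mainGen θ red hredsurj ψ hψ (inc y) ?_ ?_ hker hBW (fun t => halg _) (fun w => ?_) e ϖ hϖ he).1
  · intro h
    have hyu : IsUnit y := (isUnit_map_iff inc y).mp h
    have : y ∈ maximalIdeal (W.comap (algebraMap F N)) := by rw [hy]; exact Ideal.mem_span_singleton_self y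
    exact this hyu
  · exact fun h => hy0 (Subtype.ext ((algebraMap F N).injective ((congrArg Subtype.val h).trans (map_zero _).symm)))
  · obtain ⟨q, hq⟩ := hgen (w : N)
    obtain ⟨⟨b, hb⟩, hbq⟩ := IsLocalization.integerNormalization_map_to_map (nonZeroDivisors (W.comap (algebraMap F N))) q
    have hb0 : b ≠ 0 := nonZeroDivisors.ne_zero hb
    refine ⟨IsLocalization.integerNormalization (nonZeroDivisors (W.comap (algebraMap F N))) q, C b, ?_, Subtype.ext ?_⟩
    · intro h
      have h1 : inc b = 0 := by simpa [θ] using h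
      have h2 : algebraMap F N (b : F) = 0 := congrArg Subtype.val h1
      exact hb0 (Subtype.ext ((_root_.map_eq_zero _).mp h2))
    · show (w : N) * algebraMap W N ((C b).eval₂ inc ⟨ζ, hζW⟩) = algebraMap W N ((IsLocalization.integerNormalization (nonZeroDivisors (W.comap (algebraMap F N))) q).eval₂ inc ⟨ζ, hζW⟩)
      rw [eval₂_C, hom_eval₂, ← hq]
      haveI : IsScalarTower (W.comap (algebraMap F N)) F N := IsScalarTower.of_algebraMap_eq fun _ => rfl
      show aeval ζ q * algebraMap (W.comap (algebraMap F N)) N b = aeval ζ (IsLocalization.integerNormalization (nonZeroDivisors (W.comap (algebraMap F N))) q)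
      rw [← aeval_map_algebraMap F ζ (IsLocalization.integerNormalization (nonZeroDivisors (W.comap (algebraMap F N))) q), hbq, Algebra.smul_def, map_mul,
        Polynomial.algebraMap_apply, aeval_C, ← IsScalarTower.algebraMap_apply, mul_comm]

end EtRamAS
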