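import Mathlib
import Groth.Prelude.Def_EtRam
import Groth.Agent.EtRamEis.Basic

/-!
Totally ramified towers: Eisenstein root fields and a degree `p` step with an element of fractional valuation.
-/

set_option linter.all false

universe u

open Polynomial IsLocalRing

namespace EtRamAS

lemma eisenstein {A : Type u} [CommRing A] [IsDomain A] [IsDiscreteValuationRing A] {π : A} (hπ : Irreducible π) (p n : ℕ)
    (hp : 1 < p) (hn : n ≠ 0) :
    (X ^ p + (C (π ^ n) * X - C π) : A[X]).Monic ∧ (X ^ p + (C (π ^ n) * X - C π) : A[X]).natDegree = p ∧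
      (X ^ p + (C (π ^ n) * X - C π) : A[X]).IsEisensteinAt (maximalIdeal A) := by
  have hπm : maximalIdeal A = Ideal.span {π} := (IsDiscreteValuationRing.irreducible_iff_uniformizer π).mp hπ
  have hdeg : (C (π ^ n) * X - C π).degree < (p : WithBot ℕ) := by
    refine lt_of_le_of_lt (degree_sub_le _ _) (max_lt ?_ ?_)
    · exact lt_of_le_of_lt (degree_C_mul_X_le _) (by exact_mod_cast hp)
    · exact lt_of_le_of_lt degree_C_le (by exact_mod_cast (by omega : 0 < p))
  have hmon := monic_X_pow_add hdeg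
  have hnat : (X ^ p + (C (π ^ n) * X - C π) : A[X]).natDegree = p := natDegree_eq_of_degree_eq_some (by
    rw [degree_add_eq_left_of_degree_lt (by rwa [degree_X_pow]), degree_X_pow])
  refine ⟨hmon, hnat, hmon.isEisensteinAt_of_mem_of_notMem (Ideal.IsMaximal.ne_top inferInstance) (fun {i} hi => ?_) ?_⟩
  · rw [hnat] at hi
    rw [coeff_add, coeff_X_pow, if_neg (by omega), zero_add, coeff_sub, coeff_C_mul_X, coeff_C]
    refine sub_mem ?_ ?_
    · split_ifs
      · rw [hπm]; exact Ideal.mem_span_singleton.mpr (dvd_pow_self π hn)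
      · exact Ideal.zero_mem _
    · split_ifs
      · rw [hπm]; exact Ideal.mem_span_singleton_self π
      · exact Ideal.zero_mem _
  · rw [coeff_add, coeff_X_pow, if_neg (by omega), zero_add, coeff_sub, coeff_C_mul_X, coeff_C, if_neg (by norm_num), if_pos rfl,
      zero_sub, neg_mem_iff, hπm, Ideal.span_singleton_pow, Ideal.mem_span_singleton]
    rintro ⟨c, hc⟩
    refine hπ.not_isUnit (IsUnit.of_mul_eq_one c (mul_left_cancel₀ hπ.ne_zero ?_))
    rw [← mul_assoc, ← pow_two, ← hc, mul_one]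

variable {A : Type u} [CommRing A] [IsDomain A] [IsDiscreteValuationRing A]
  {K₁ K₂ : Type u} [Field K₁] [Field K₂] [Algebra K₁ K₂] {g₁ : A →+* K₁}

lemma dominates_comap {V : ValuationSubring K₂} (hV : EtRam.Dominates A ((algebraMap K₁ K₂).comp g₁) V) :
    EtRam.Dominates A g₁ (V.comap (algebraMap K₁ K₂)) := by
  refine ⟨fun a => hV.1 a, fun a ha => ?_⟩
  refine ((V.comap (algebraMap K₁ K₂)).valuation_lt_one_iff ⟨_, hV.1 a⟩).mp fun hu => ?_
  have h1 : IsUnit (⟨algebraMap K₁ K₂ (g₁ a), hV.1 a⟩ : V) := hu.map (EtRam.inclOfComap V (algebraMap K₁ K₂))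
  exact (hV.2 a ha).ne ((V.valuation_eq_one_iff _).mp h1)

/-- Extension of total ramification by an element `y` with `v(y) ^ p = v(r)`. -/
theorem isTotallyRamified_step (ht : EtRam.IsTotallyRamified A g₁) (p : ℕ) (hp : 0 < p) (r : K₁) (hr0 : r ≠ 0)
    (hr : ∀ V₁ : ValuationSubring K₁, EtRam.Dominates A g₁ V₁ → ∃ h : r ∈ V₁, Irreducible (⟨r, h⟩ : V₁) ∧
      IsDiscreteValuationRing V₁)
    [FiniteDimensional K₁ K₂] (hdeg : Module.finrank K₁ K₂ ≤ p) (y : K₂)
    (hy : ∀ V : ValuationSubring K₂, EtRam.Dominates A ((algebraMap K₁ K₂).comp g₁) V →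
      V.valuation y ^ p = V.valuation (algebraMap K₁ K₂ r)) :
    EtRam.IsTotallyRamified A ((algebraMap K₁ K₂).comp g₁) := by
  classical
  obtain ⟨⟨V₁, hV₁⟩, huniq, hres⟩ := ht
  obtain ⟨hrV, hirr, hdvr⟩ := hr V₁ hV₁
  -- existence
  have hex : ∃ V : ValuationSubring K₂, EtRam.Dominates A ((algebraMap K₁ K₂).comp g₁) V := by
    let φ : V₁ →+* K₂ := (algebraMap K₁ K₂).comp V₁.subtype
    have hφ : Function.Injective φ := (algebraMap K₁ K₂).injective.comp Subtype.val_injective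
    haveI : IsLocalRing φ.range := IsLocalRing.of_surjective' φ.rangeRestrict φ.rangeRestrict_surjective
    obtain ⟨W, hle, hloc⟩ := (LocalSubring.mk φ.range).exists_le_valuationSubring
    have hmem : ∀ a, φ a ∈ W := fun a => hle ⟨a, rfl⟩
    refine ⟨W, fun a => hmem ⟨g₁ a, hV₁.1 a⟩, fun a ha => ?_⟩
    refine (W.valuation_lt_one_iff ⟨_, hmem ⟨g₁ a, hV₁.1 a⟩⟩).mp fun hu => ?_
    obtain ⟨⟨_, e, rfl⟩, he⟩ := isUnit_iff_exists_inv.mp
      (hloc.map_nonunit (⟨φ ⟨g₁ a, hV₁.1 a⟩, _, rfl⟩ : φ.range) hu)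
    have he' : φ (⟨g₁ a, hV₁.1 a⟩ * e) = φ 1 := by rw [map_mul, map_one]; exact congrArg Subtype.val he
    exact (hV₁.2 a ha).ne ((V₁.valuation_eq_one_iff _).mp (IsUnit.of_mul_eq_one e (hφ he')))
  -- valuations of elements of K₁
  have key : ∀ (V : ValuationSubring K₂), EtRam.Dominates A ((algebraMap K₁ K₂).comp g₁) V →
      V.comap (algebraMap K₁ K₂) = V₁ ∧
      V.valuation (algebraMap K₁ K₂ r) < 1 ∧
      ∀ c : K₁, c ≠ 0 → ∃ k : ℤ, V.valuation (algebraMap K₁ K₂ c) = V.valuation (algebraMap K₁ K₂ r) ^ k := by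
    intro V hV
    have hc : V.comap (algebraMap K₁ K₂) = V₁ := huniq _ _ (dominates_comap hV) hV₁
    refine ⟨hc, ?_, ?_⟩
    · have hrm : algebraMap K₁ K₂ r ∈ V := by rw [← ValuationSubring.mem_comap, hc]; exact hrV
      refine (V.valuation_lt_one_iff ⟨_, hrm⟩).mp fun hu => hirr.not_isUnit ?_
      subst hc
      exact (isUnit_map_iff (EtRam.inclOfComap V (algebraMap K₁ K₂)) _).mp hu
    · intro c hc0
      have unit : ∀ u : V₁ˣ, V.valuation (algebraMap K₁ K₂ ((u : V₁) : K₁)) = 1 := by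
        subst hc
        intro u
        exact (V.valuation_eq_one_iff _).mp (u.isUnit.map (EtRam.inclOfComap V (algebraMap K₁ K₂)))
      rcases V₁.mem_or_inv_mem c with h | h
      · obtain ⟨k, u, hu⟩ := IsDiscreteValuationRing.eq_unit_mul_pow_irreducible (x := (⟨c, h⟩ : V₁)) (fun h0 => hc0 (congrArg Subtype.val h0)) hirr
        refine ⟨k, ?_⟩
        have h1 : c = ((u : V₁) : K₁) * r ^ k := congrArg Subtype.val hu
        rw [h1, map_mul, map_pow, map_mul, map_pow, unit u, one_mul, zpow_natCast]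
      · obtain ⟨k, u, hu⟩ := IsDiscreteValuationRing.eq_unit_mul_pow_irreducible (x := (⟨c⁻¹, h⟩ : V₁)) (fun h0 => inv_ne_zero hc0 (congrArg Subtype.val h0)) hirr
        refine ⟨-(k : ℤ), ?_⟩
        have h1 : c⁻¹ = ((u : V₁) : K₁) * r ^ k := congrArg Subtype.val hu
        rw [← inv_inv c, h1, map_inv₀, map_inv₀, map_mul, map_pow, map_mul, map_pow, unit u, one_mul, zpow_neg, zpow_natCast]
  -- distinct valuations
  have hterm : ∀ (V : ValuationSubring K₂), EtRam.Dominates A ((algebraMap K₁ K₂).comp g₁) V → ∀ (c : Fin p → K₁) (i j : Fin p),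
      c i ≠ 0 → V.valuation (algebraMap K₁ K₂ (c i) * y ^ (i : ℕ)) = V.valuation (algebraMap K₁ K₂ (c j) * y ^ (j : ℕ)) → i = j := by
    intro V hV c i j hci heq
    obtain ⟨-, hlt, hk⟩ := key V hV
    set ρ := V.valuation (algebraMap K₁ K₂ r) with hρ
    have hρ0 : ρ ≠ 0 := by rw [hρ, Valuation.ne_zero_iff]; exact (_root_.map_ne_zero _).mpr hr0
    have hcj : c j ≠ 0 := fun h0 => by
      rw [h0, map_zero, zero_mul, map_zero, map_mul, mul_eq_zero] at heq
      rcases heq with h | h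
      · exact hci ((_root_.map_eq_zero _).mp ((Valuation.zero_iff _).mp h))
      · rw [map_pow, pow_eq_zero_iff'] at h
        have := hy V hV
        rw [h.1, zero_pow hp.ne'] at this
        exact hρ0 this.symm
    obtain ⟨k, hk'⟩ := hk _ hci
    obtain ⟨l, hl'⟩ := hk _ hcj
    have h2 := congrArg (· ^ p) heq
    simp only [map_mul, map_pow, mul_pow, ← pow_mul, mul_comm _ p, hk', hl'] at h2
    rw [pow_mul, pow_mul, hy V hV, ← hρ, ← zpow_natCast (ρ ^ k), ← zpow_natCast (ρ ^ l), ← zpow_mul, ← zpow_mul,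
      ← zpow_natCast, ← zpow_natCast, ← zpow_add₀ hρ0, ← zpow_add₀ hρ0] at h2
    have hanti : StrictAnti fun z : ℤ => ρ ^ z := zpow_right_strictAnti₀ (zero_lt_iff.mpr hρ0) hlt
    have h3 := hanti.injective h2
    have h4 := congrArg (· % (p : ℤ)) h3
    simp only [Int.add_emod, Int.mul_emod_left, zero_add, Int.emod_emod_of_dvd] at h4
    have hi : ((i : ℕ) : ℤ) % p = i := Int.emod_eq_of_lt (by omega) (by exact_mod_cast i.2)
    have hj : ((j : ℕ) : ℤ) % p = j := Int.emod_eq_of_lt (by omega) (by exact_mod_cast j.2)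
    simp only [hi, hj] at h4
    exact Fin.ext (by exact_mod_cast h4)
  have hsum : ∀ (V : ValuationSubring K₂), EtRam.Dominates A ((algebraMap K₁ K₂).comp g₁) V → ∀ (c : Fin p → K₁) (i : Fin p),
      V.valuation (algebraMap K₁ K₂ (c i) * y ^ (i : ℕ)) ≤ V.valuation (∑ j : Fin p, algebraMap K₁ K₂ (c j) * y ^ (j : ℕ)) := by
    intro V hV c i
    obtain ⟨m, -, hm⟩ := Finset.exists_max_image Finset.univ (fun j : Fin p => V.valuation (algebraMap K₁ K₂ (c j) * y ^ (j : ℕ))) ⟨i, Finset.mem_univ _⟩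
    by_cases hcm : V.valuation (algebraMap K₁ K₂ (c m) * y ^ (m : ℕ)) = 0
    · exact le_trans (hm i (Finset.mem_univ _)) (by rw [hcm]; exact zero_le)
    have hcm' : c m ≠ 0 := fun h0 => hcm (by rw [h0, map_zero, zero_mul, map_zero])
    rw [Valuation.map_sum_eq_of_lt (j := m) V.valuation (Finset.mem_univ _) fun j hj =>
      lt_of_le_of_ne (hm j (Finset.mem_univ _)) fun h => (Finset.mem_sdiff.mp hj).2 (Finset.mem_singleton.mpr (hterm V hV c m j hcm' h.symm).symm)]
    exact hm i (Finset.mem_univ _)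
  obtain ⟨V₂, hV₂⟩ := hex
  have hspan : ∀ x : K₂, ∃ c : Fin p → K₁, x = ∑ j : Fin p, algebraMap K₁ K₂ (c j) * y ^ (j : ℕ) := by
    have hind : LinearIndependent K₁ (fun j : Fin p => y ^ (j : ℕ)) := by
      rw [Fintype.linearIndependent_iff]
      intro c hc i
      simp only [Algebra.smul_def] at hc
      have h1 := hsum V₂ hV₂ c i
      rw [hc, map_zero, le_zero_iff, Valuation.zero_iff, mul_eq_zero] at h1
      rcases h1 with h | h
      · exact (_root_.map_eq_zero _).mp h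
      · exfalso
        have h' := (pow_eq_zero_iff'.mp h).1
        have := hy V₂ hV₂
        rw [h', map_zero, zero_pow hp.ne', eq_comm, Valuation.zero_iff, _root_.map_eq_zero] at this
        exact hr0 this
    have hcard : Fintype.card (Fin p) = Module.finrank K₁ K₂ := by
      refine le_antisymm hind.fintype_card_le_finrank ?_
      rwa [Fintype.card_fin]
    haveI : Nonempty (Fin p) := ⟨⟨0, hp⟩⟩
    intro x
    let b := basisOfLinearIndependentOfCardEqFinrank hind hcard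
    refine ⟨fun j => b.repr x j, ?_⟩
    conv_lhs => rw [← b.sum_repr x]
    refine Finset.sum_congr rfl fun j _ => ?_
    rw [Algebra.smul_def, coe_basisOfLinearIndependentOfCardEqFinrank]
  have hmem : ∀ (V : ValuationSubring K₂), EtRam.Dominates A ((algebraMap K₁ K₂).comp g₁) V → ∀ (c : Fin p → K₁),
      ((∑ j : Fin p, algebraMap K₁ K₂ (c j) * y ^ (j : ℕ)) ∈ V ↔ ∀ j : Fin p, c j ^ p * r ^ (j : ℕ) ∈ V₁) := by
    intro V hV c
    have he : ∀ j : Fin p, c j ^ p * r ^ (j : ℕ) ∈ V₁ ↔ V.valuation (algebraMap K₁ K₂ (c j) * y ^ (j : ℕ)) ≤ 1 := by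
      intro j
      rw [← (key V hV).1, ValuationSubring.mem_comap, ← V.valuation_le_one_iff, map_mul, map_pow, map_pow, map_mul, map_pow,
        map_pow, ← hy V hV, ← pow_mul, mul_comm p, pow_mul, ← mul_pow, pow_le_one_iff hp.ne', map_mul, map_pow]
    rw [← V.valuation_le_one_iff]
    constructor
    · exact fun h j => (he j).mpr ((hsum V hV c j).trans h)
    · exact fun h => Valuation.map_sum_le _ fun j _ => (he j).mp (h j)
  refine ⟨⟨V₂, hV₂⟩, fun V V' hV hV' => SetLike.ext fun x => ?_, fun V hV => ?_⟩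
  · obtain ⟨c, rfl⟩ := hspan x
    rw [hmem V hV, hmem V' hV']
  · intro ρ'
    obtain ⟨⟨x, hx⟩, rfl⟩ := residue_surjective ρ'
    obtain ⟨c, rfl⟩ := hspan x
    have hle := (V.valuation_le_one_iff _).mpr hx
    have h0 : c ⟨0, hp⟩ ∈ V₁ := by
      have h1 := (hsum V hV c ⟨0, hp⟩).trans hle
      simp only [pow_zero, mul_one] at h1
      rw [← (key V hV).1]
      exact (V.valuation_le_one_iff _).mp h1
    obtain ⟨a, ha⟩ := hres V₁ hV₁ (residue V₁ ⟨_, h0⟩)
    refine ⟨a, Ideal.Quotient.eq.mpr ?_⟩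
    rw [IsLocalRing.mem_maximalIdeal, ← IsLocalRing.mem_maximalIdeal, V.valuation_lt_one_iff]
    show V.valuation (algebraMap K₁ K₂ (g₁ a) - ∑ j : Fin p, algebraMap K₁ K₂ (c j) * y ^ (j : ℕ)) < 1
    rw [← Finset.add_sum_erase _ _ (Finset.mem_univ (⟨0, hp⟩ : Fin p))]
    simp only [pow_zero, mul_one]
    rw [← sub_sub, ← map_sub]
    have hdiff : g₁ a - c ⟨0, hp⟩ ∈ V₁ := V₁.toSubring.sub_mem (hV₁.1 a) h0
    have hA : V.valuation (algebraMap K₁ K₂ (g₁ a - c ⟨0, hp⟩)) < 1 := by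
      have h1 : (⟨_, hdiff⟩ : V₁) ∈ maximalIdeal V₁ := Ideal.Quotient.eq.mp ha
      obtain ⟨hc', -, -⟩ := key V hV
      subst hc'
      refine (V.valuation_lt_one_iff ⟨_, hdiff⟩).mp fun hu => h1 ?_
      exact (isUnit_map_iff (EtRam.inclOfComap V (algebraMap K₁ K₂)) _).mp hu
    refine lt_of_le_of_lt (Valuation.map_sub _ _ _) (max_lt hA ?_)
    refine Valuation.map_sum_lt _ one_ne_zero fun j hj => ?_
    refine lt_of_le_of_ne ((hsum V hV c j).trans hle) fun heq => ?_
    have hj0 : (j : ℕ) ≠ 0 := fun h => (Finset.mem_erase.mp hj).1 (Fin.ext h)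
    by_cases hcj : c j = 0
    · rw [hcj, map_zero, zero_mul, map_zero] at heq
      exact zero_ne_one heq
    refine hj0 (congrArg Fin.val (hterm V hV (Function.update c ⟨0, hp⟩ 1) j ⟨0, hp⟩ ?_ ?_))
    · rw [Function.update_of_ne (fun h => hj0 (congrArg Fin.val h))]; exact hcj
    · rw [Function.update_of_ne (fun h => hj0 (congrArg Fin.val h)), Function.update_self, heq, map_one, pow_zero, one_mul,
        map_one]

end EtRamAS
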